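import Groth.Agent.L07.RefExtend.Coh
import Groth.Agent.L06.NormalAscent
import Groth.Agent.L16.DevissageKilled
import Groth.Agent.L21.Mod.Stalks
import Groth.Agent.L03.ShStab.TrivialGG
import Groth.Prelude.Def_FlatMod2
import Mathlib.RingTheory.Flat.TorsionFree

/-!
# The bidual of a submodule of finite type of a flat module on a normal scheme
-/

set_option autoImplicit false
set_option linter.style.haveILetI false
set_option backward.isDefEq.respectTransparency false

universe u

open CategoryTheory CategoryTheory.Limits AlgebraicGeometry TopologicalSpace Opposite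

noncomputable section

namespace Groth.L04.FlatHull

open Groth.L07.RefExtend
open Groth.L21.Extend (SupportedOn)

variable {X : Scheme.{u}}

/-- A submodule of finite type of a quasi-coherent module is coherent. -/
theorem isCoh_of_isFT_of_mono [IsLocallyNoetherian X] {A F : X.Modules} [Coh.IsQCoh A] (ι : F ⟶ A) [Mono ι]
    (hF : CohB1.IsFT F) : Coh.IsCoh F := by
  refine Groth.L29.DC.RHomC.isCoh_of_cover fun x => ?_
  obtain ⟨U, σ, hxU, hfin⟩ := Groth.L00.Local.exists_generators_of_isFT F hF x
  refine ⟨U, hxU, ?_⟩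
  haveI : IsLocallyNoetherian (U : Scheme.{u}) := isLocallyNoetherian_of_isOpenImmersion U.ι
  let N := Nat.card σ.I
  haveI := σ.epi
  let e : FlatMod.freeMod U.toScheme N ≅ SheafOfModules.free σ.I :=
    (Sigma.whiskerEquiv (f := fun _ : Fin N => Coh.structureModule U.toScheme)
      (g := fun _ : σ.I => Coh.structureModule U.toScheme) (Finite.equivFin σ.I).symm fun _ => Iso.refl _ :)
  let φ : FlatMod.freeMod U.toScheme N ⟶ F.restrict U.ι :=
    e.hom ≫ (F.restrict U.ι).freeHomEquiv.symm σ.s
  haveI : Epi φ := @epi_comp _ _ _ _ _ e.hom inferInstance _ σ.epi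
  let m : F.restrict U.ι ⟶ A.restrict U.ι := (Scheme.Modules.restrictFunctor U.ι).map ι
  haveI : Mono m := (Scheme.Modules.restrictFunctor U.ι).map_mono ι
  haveI : Coh.IsQCoh (A.restrict U.ι) := inferInstance
  haveI : Epi (Abelian.factorThruImage (φ ≫ m)) := inferInstance
  haveI hepi : StrongEpi φ := strongEpi_of_epi φ
  have hfree : Coh.IsCoh (FlatMod.freeMod U.toScheme N) :=
    Groth.L16.Devissage.isCoh_sigma _ fun _ => Groth.L16.CohClosedPush.isCoh_structure
  refine Groth.L16.CohSupport.isCoh_of_iso ?_ (Groth.L16.CohSupport.isCoh_image hfree (φ ≫ m))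
  exact (Abelian.imageIsoImage (φ ≫ m)) ≪≫
    (image.isoStrongEpiMono φ m rfl).symm

variable [IsLocallyNoetherian X]

theorem isTorsionFree_stalk (hX : Pi1.IsNormalScheme X) {A F : X.Modules} (hA : FlatMod.IsFlat A)
    (ι : F ⟶ A) [Mono ι] (x : X) :
    Module.IsTorsionFree (X.presheaf.stalk x) (F.presheaf.stalk x) := by
  haveI := (hX x).1
  haveI : Module.Flat (X.presheaf.stalk x) (A.presheaf.stalk x) := hA x
  haveI : Module.IsTorsionFree (X.presheaf.stalk x) (A.presheaf.stalk x) := inferInstance
  exact (show Function.Injective (RefHull.stalkMapₗ ι x) from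
    (Groth.L21.Mod.mono_iff_stalk_injective ι).1 inferInstance x).moduleIsTorsionFree _ fun r v => map_smul _ r v

/-- Outside the flat locus the local rings have depth at least two. -/
theorem two_le_depth (hX : Pi1.IsNormalScheme X) {A F : X.Modules} (hA : FlatMod.IsFlat A)
    (ι : F ⟶ A) [Mono ι] (hF : Coh.IsCoh F) (x : X) (hx : ¬ FlatMod.IsFlatAt F x) :
    (2 : ℕ∞) ≤ LocCoh.depth (X.presheaf.stalk x) (X.presheaf.stalk x) := by
  haveI := (hX x).1
  haveI := (hX x).2
  haveI := isTorsionFree_stalk hX hA ι x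
  haveI := Groth.L15.Ref.finite_stalk hF x
  refine Groth.L06.NormalAscent.two_le_depth_of_normal fun hdim => hx ?_
  haveI := Groth.L06.NormalAscent.regular_of_normal_dim_le_one hdim
  haveI : Ring.KrullDimLE 1 (X.presheaf.stalk x) := Ring.krullDimLE_iff.mpr (by exact_mod_cast hdim)
  have htfae : (IsIntegrallyClosed (X.presheaf.stalk x) ∧ ∀ P : Ideal (X.presheaf.stalk x), P ≠ ⊥ → P.IsPrime →
      P = IsLocalRing.maximalIdeal (X.presheaf.stalk x)) ↔ IsPrincipalIdealRing (X.presheaf.stalk x) :=
    (tfae_of_isNoetherianRing_of_isLocalRing_of_isDomain (X.presheaf.stalk x)).out 3 0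
  haveI : IsPrincipalIdealRing (X.presheaf.stalk x) := htfae.1
    ⟨inferInstance, fun P hP hP' => by
      haveI := hP'
      exact IsLocalRing.eq_maximalIdeal (Ring.krullDimLE_one_iff_of_noZeroDivisors.mp inferInstance P hP hP')⟩
  haveI : Module.Free (X.presheaf.stalk x) (F.presheaf.stalk x) := Module.free_of_finite_type_torsion_free'
  exact (inferInstance : Module.Flat (X.presheaf.stalk x) (F.presheaf.stalk x))

theorem isReflexiveAt_of_flat {F : X.Modules} (hF : Coh.IsCoh F) {x : X} (hx : FlatMod.IsFlatAt F x) :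
    RefHull.IsReflexiveAt F x := by
  haveI := Groth.L15.Ref.finite_stalk hF x
  haveI : Module.Flat (X.presheaf.stalk x) (F.presheaf.stalk x) := hx
  haveI : Module.Free (X.presheaf.stalk x) (F.presheaf.stalk x) := Module.free_of_flat_of_isLocalRing
  exact ⟨Module.bijective_dual_eval _ _⟩

/-- The bidual is the direct image from the flat locus. -/
theorem exists_iso (hX : Pi1.IsNormalScheme X) {A F : X.Modules} [Coh.IsQCoh A] (hA : FlatMod.IsFlat A)
    (ι : F ⟶ A) [Mono ι] (hF : CohB1.IsFT F) (U : X.Opens) (hU : (U : Set X) = {s : X | FlatMod.IsFlatAt F s}) :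
    ∃ e : RefHull.ddual F ≅ (Scheme.Modules.pushforward U.ι).obj (F.restrict U.ι),
      RefHull.bidualMap F ≫ e.hom = (Scheme.Modules.restrictAdjunction U.ι).unit.app F := by
  have hc := isCoh_of_isFT_of_mono ι hF
  have hO : SupportedOn (Coh.structureModule X) U := supportedOn_structureModule fun x hx =>
    two_le_depth hX hA ι hc x fun h => hx (hU.ge h)
  let η := RefHull.bidualMap F
  haveI := isIso_map_bidualMap U hc fun y hy => isReflexiveAt_of_flat hc (hU.le hy)
  haveI := Groth.L14.ParaF.isIso_unit U.ι (M := RefHull.ddual F)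
    (by rw [Scheme.Opens.opensRange_ι]; exact supportedOn_ddual hO F)
  let adj := Scheme.Modules.restrictAdjunction U.ι
  refine ⟨asIso (adj.unit.app (RefHull.ddual F)) ≪≫ (Scheme.Modules.pushforward U.ι).mapIso
    (asIso ((Scheme.Modules.restrictFunctor U.ι).map η)).symm, ?_⟩
  have hnat : η ≫ adj.unit.app (RefHull.ddual F) = adj.unit.app F ≫
      (Scheme.Modules.pushforward U.ι).map ((Scheme.Modules.restrictFunctor U.ι).map η) := adj.unit.naturality η
  simp only [Iso.trans_hom, asIso_hom, Functor.mapIso_hom, Iso.symm_hom, asIso_inv]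
  rw [← Category.assoc, hnat, Category.assoc, ← Functor.map_comp, IsIso.hom_inv_id]
  exact (congrArg (adj.unit.app F ≫ ·) ((Scheme.Modules.pushforward U.ι).map_id _)).trans (Category.comp_id _)

end Groth.L04.FlatHull
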